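import Mathlib

/-!
# The Netto-type triple operation has no group transitive on its triangles

For a prime field with `-1` a non-square and `ρ ^ 2 - ρ + 1 = 0`, the operation sending `(i, j)` to
the third point of the line through `i` and `j` distinguishes two kinds of triangles.
-/

set_option autoImplicit false

namespace Cfsg.Agent.Lie.HalfNormalizer

variable {K : Type*} [Field K]

open scoped Classical in
/-- The third point on the line through `i` and `j`. -/
noncomputable def tt (ρ : K) (i j : K) : K :=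
  if IsSquare (j - i) then i + ρ * (j - i) else i + (1 - ρ) * (j - i)

theorem tt_sq (ρ : K) {i j : K} (d : K) (h : j - i = d) (hd : IsSquare d) :
    tt ρ i j = i + ρ * d := by subst h; rw [tt, if_pos hd]

theorem tt_nsq (ρ : K) {i j : K} (d : K) (h : j - i = d) (hd : ¬ IsSquare d) :
    tt ρ i j = i + (1 - ρ) * d := by subst h; rw [tt, if_neg hd]

/-- No group of symmetries of the triple operation is transitive on triangles. -/
theorem netto_false (h2 : (2 : K) ≠ 0) (h3 : (3 : K) ≠ 0) (h7 : (7 : K) ≠ 0) (h13 : (13 : K) ≠ 0)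
    (hneg : ¬ IsSquare (-1 : K))
    (hnn : ∀ a b : K, ¬ IsSquare a → ¬ IsSquare b → IsSquare (a * b))
    (ρ : K) (hρ1 : ρ ≠ 1) (hclose : tt ρ 0 ρ = 1)
    (htrans : ∀ u u' : K, u ≠ 0 → u ≠ 1 → u ≠ ρ → u' ≠ 0 → u' ≠ 1 → u' ≠ ρ →
      ∃ σ : K → K, σ 0 = 0 ∧ σ 1 = 1 ∧ σ u = u' ∧ Function.Injective σ ∧
        ∀ i j, i ≠ j → σ (tt ρ i j) = tt ρ (σ i) (σ j)) : False := by
  have hone : IsSquare (1 : K) := IsSquare.one
  have hρ0 : ρ ≠ 0 := by
    intro h
    rw [h, tt_sq (0 : K) 0 (by ring) IsSquare.zero] at hclose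
    simp at hclose
  have hsn : ∀ a b : K, IsSquare a → a ≠ 0 → ¬ IsSquare b → ¬ IsSquare (a * b) := by
    intro a b ha ha0 hb hab
    exact hb (by simpa [ha0] using hab.div ha)
  -- the structure constant is a non-square
  have hρn : ¬ IsSquare ρ := by
    intro h
    rw [tt_sq ρ ρ (by ring) h] at hclose
    have : (ρ - 1) * (ρ + 1) = 0 := by linear_combination hclose
    rcases mul_eq_zero.1 this with h' | h'
    · exact hρ1 (sub_eq_zero.1 h')
    · exact hneg (by rwa [eq_neg_of_add_eq_zero_left h'] at h)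
  have hrel : ρ * ρ = ρ - 1 := by
    rw [tt_nsq ρ ρ (by ring) hρn] at hclose
    linear_combination -hclose
  have h1ρn : ¬ IsSquare (1 - ρ) := by
    intro h
    have h0 : (1 - ρ) ≠ 0 := sub_ne_zero.2 (Ne.symm hρ1)
    exact hsn _ _ h h0 hρn ⟨1, by linear_combination -hrel⟩
  have hm1ρ : IsSquare (-ρ) := by have := hnn _ _ hneg hρn; rwa [neg_one_mul] at this
  have hne1 : (ρ : K) + 1 ≠ 0 := by
    intro h
    exact h3 (by linear_combination hrel - (ρ - 2) * h)
  have h01 : tt ρ 0 1 = ρ := by rw [tt_sq ρ 1 (by ring) hone]; ring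
  -- three is a non-square
  have h3n : ¬ IsSquare (3 : K) := by
    intro h
    have hw : IsSquare (-3 : K) := ⟨2 * ρ - 1, by linear_combination -4 * hrel⟩
    have : ¬ IsSquare ((3 : K) * -1) := hsn _ _ h h3 hneg
    rw [mul_neg_one] at this
    exact this hw
  by_cases hs2 : IsSquare (2 : K)
  · -- a Pasch configuration and a triangle without one
    have h4 : IsSquare (4 : K) := ⟨2, by norm_num⟩
    have h4ne1 : (4 : K) ≠ 1 := fun h => h3 (by linear_combination h)
    have h4ne0 : (4 : K) ≠ 0 := fun h => h2 (by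
      have : (2 : K) * 2 = 0 := by linear_combination h
      simpa using this)
    have h4ρ : (4 : K) ≠ ρ := fun h => h13 (by linear_combination (3 + ρ) * h + hrel)
    have h2ρ : (2 : K) ≠ ρ := fun h => h3 (by linear_combination (1 + ρ) * h + hrel)
    have h21 : (2 : K) ≠ 1 := fun h => one_ne_zero (by linear_combination h : (1 : K) = 0)
    obtain ⟨σ, s0, s1, s2, sinj, sT⟩ := htrans 2 4 h2 h21 h2ρ h4ne0 h4ne1 h4ρ
    have sρ : σ ρ = ρ := by
      rw [← h01, sT 0 1 zero_ne_one, s0, s1]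
    have hf : tt ρ 0 2 = 2 * ρ := by rw [tt_sq ρ 2 (by ring) hs2]; ring
    have hg : tt ρ 1 2 = 1 + ρ := by rw [tt_sq ρ 1 (by ring) hone]; ring
    have hh : tt ρ ρ (2 * ρ) = tt ρ 1 2 := by
      rw [hg, tt_nsq ρ ρ (by ring) hρn]
      linear_combination -hrel
    have hne : ρ ≠ 2 * ρ := fun h => hρ0 (by linear_combination -h)
    have e := congrArg σ hh
    rw [sT _ _ hne, sT 1 2 (Ne.symm h21), ← hf, sT 0 2 (Ne.symm h2), sρ, s0, s1, s2] at e
    rw [tt_sq ρ 4 (by ring : (4 : K) - 0 = 4) h4, zero_add,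
      tt_nsq ρ 3 (by ring : (4 : K) - 1 = 3) h3n,
      tt_sq ρ (ρ * 3) (by ring : ρ * 4 - ρ = ρ * 3) (hnn _ _ hρn h3n)] at e
    exact hρ1 (sub_eq_zero.1 ((mul_eq_zero.1
      (show (7 : K) * (ρ - 1) = 0 by linear_combination e - 3 * hrel)).resolve_left h7))
  · -- two is a non-square
    have hm2 : IsSquare (-2 : K) := by have := hnn _ _ hneg hs2; rwa [neg_one_mul] at this
    have h2ρ : IsSquare (2 * ρ) := hnn _ _ hs2 hρn
    have hm2ρ : ¬ IsSquare (-2 * ρ) := hsn _ _ hm2 (neg_ne_zero.2 h2) hρn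
    have u0 : 1 + ρ ≠ 0 := fun h => hne1 (by linear_combination h)
    have u1 : 1 + ρ ≠ 1 := fun h => hρ0 (by linear_combination h)
    have uρ : 1 + ρ ≠ ρ := fun h => one_ne_zero (by linear_combination h : (1 : K) = 0)
    have v0 : -ρ ≠ 0 := neg_ne_zero.2 hρ0
    have v1 : -ρ ≠ 1 := fun h => hne1 (by linear_combination -h)
    have vρ : -ρ ≠ ρ := fun h => hρ0 ((mul_eq_zero.1
      (show (2 : K) * ρ = 0 by linear_combination -h)).resolve_left h2)
    obtain ⟨σ, s0, s1, s2, sinj, sT⟩ := htrans (1 + ρ) (-ρ) u0 u1 uρ v0 v1 vρ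
    have sρ : σ ρ = ρ := by
      rw [← h01, sT 0 1 zero_ne_one, s0, s1]
    -- the first word
    have hec : tt ρ (1 + ρ) ρ = 2 * ρ := by
      rw [tt_nsq ρ (-1) (by ring) hneg]; ring
    have hb : (1 : K) ≠ 2 * ρ := fun h => h3 (by linear_combination 4 * hrel - (1 - 2 * ρ) * h)
    -- the third point of `0` and `1 + ρ`
    have hf1 : tt ρ 0 (1 + ρ) ≠ 1 := by
      unfold tt
      split_ifs
      · exact fun h => hρ1 ((mul_eq_zero.1
          (show (2 : K) * (ρ - 1) = 0 by linear_combination h - hrel)).resolve_left h2 |> sub_eq_zero.1)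
      · exact fun h => hρ1 (by linear_combination -h - hrel)
    have heb : 1 + ρ ≠ tt ρ 1 (tt ρ 0 (1 + ρ)) := by
      by_cases hσ : IsSquare (1 + ρ)
      · rw [tt_sq ρ (i := (0 : K)) (1 + ρ) (by ring) hσ,
          tt_nsq ρ (i := (1 : K)) (-2 * (1 - ρ)) (by linear_combination hrel)
            (hsn _ _ hm2 (neg_ne_zero.2 h2) h1ρn)]
        exact fun h => hρ0 (by linear_combination -h + 2 * hrel)
      · rw [tt_nsq ρ (i := (0 : K)) (1 + ρ) (by ring) hσ,
          tt_nsq ρ (i := (1 : K)) (1 - ρ) (by linear_combination -hrel) h1ρn]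
        exact fun h => hρ0 ((mul_eq_zero.1
          (show (2 : K) * ρ = 0 by linear_combination h + hrel)).resolve_left h2)
    have hW : tt ρ 1 (2 * ρ) = tt ρ (1 + ρ) (tt ρ 1 (tt ρ 0 (1 + ρ))) := by
      have e21 : (2 * ρ - 1) = ρ * (1 + ρ) := by linear_combination -hrel
      by_cases hσ : IsSquare (1 + ρ)
      · have hd : ¬ IsSquare (2 * ρ - 1) := by
          rw [e21, mul_comm]; exact hsn _ _ hσ u0 hρn
        rw [tt_nsq ρ (i := (1 : K)) (j := 2 * ρ) _ rfl hd,
          tt_sq ρ (i := (0 : K)) (1 + ρ) (by ring) hσ,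
          tt_nsq ρ (i := (1 : K)) (-2 * (1 - ρ)) (by linear_combination hrel)
            (hsn _ _ hm2 (neg_ne_zero.2 h2) h1ρn),
          tt_nsq ρ (i := 1 + ρ) ρ (by linear_combination -2 * hrel) hρn]
        linear_combination -hrel
      · have hd : IsSquare (2 * ρ - 1) := by rw [e21]; exact hnn _ _ hρn hσ
        rw [tt_sq ρ (i := (1 : K)) (j := 2 * ρ) _ rfl hd,
          tt_nsq ρ (i := (0 : K)) (1 + ρ) (by ring) hσ,
          tt_nsq ρ (i := (1 : K)) (1 - ρ) (by linear_combination -hrel) h1ρn,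
          tt_nsq ρ (i := 1 + ρ) (-2 * ρ) (by linear_combination hrel) hm2ρ]
        linear_combination 0 * hrel
    have e := congrArg σ hW
    rw [sT 1 (2 * ρ) hb, ← hec, sT (1 + ρ) ρ uρ, sT _ _ heb, sT 1 _ (Ne.symm hf1),
      sT 0 _ (Ne.symm u0), s0, s1, s2, sρ] at e
    -- evaluate at the second triangle
    rw [tt_sq ρ (i := -ρ) (2 * ρ) (by ring) h2ρ,
      tt_sq ρ (i := (0 : K)) (-ρ) (by ring) hm1ρ,
      tt_sq ρ (i := (1 : K)) (j := 0 + ρ * -ρ) (-ρ) (by linear_combination -hrel) hm1ρ,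
      tt_nsq ρ (i := -ρ) (j := 1 + ρ * -ρ) 2 (by linear_combination -hrel) hs2] at e
    unfold tt at e
    split_ifs at e
    · exact h3 (by linear_combination hrel - (ρ + 1) * (e - (2 * ρ + 1) * hrel))
    · refine h3 ((mul_self_eq_zero (a := (3 : K))).1 ?_)
      linear_combination 12 * hrel - (2 * ρ - 1) * (e - (1 - 2 * ρ) * hrel)

end Cfsg.Agent.Lie.HalfNormalizer
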