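import Cfsg.Agent.Lib.Lie.HalfNormalizer.Orbits
import Cfsg.Agent.Lib.Lie.HalfNormalizer.Netto

/-!
# Half Sylow normaliser: point stabilisers are primitive

A non-trivial block of a point stabiliser gives a Steiner system; the coordinate function shows
that its lines have three points and are those of the Netto system, which has no group transitive
on triangles.
-/

set_option autoImplicit false
set_option linter.style.haveILetI false

namespace Cfsg.Agent.Lie.HalfNormalizer

open MulAction

variable {G Ω : Type*} [Group G] [MulAction G Ω] {p : ℕ}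

/-- A block of the stabiliser of `a`, containing `b` and `b'` but not `x`. -/
structure BlockData (G : Type*) {Ω : Type*} [Group G] [MulAction G Ω] (a b b' : Ω) where
  B : Set Ω
  hb : b ∈ B
  hb' : b' ∈ B
  ha : a ∉ B
  x : Ω
  hxa : x ≠ a
  hxB : x ∉ B
  block : ∀ g : G, g • a = a → ∀ z ∈ B, g • z ∈ B → ∀ w ∈ B, g • w ∈ B

/-- The orbital of the triple `(a, b, b')`. -/
def T (G : Type*) {Ω : Type*} [Group G] [MulAction G Ω] (a b b' x y z : Ω) : Prop :=
  ∃ g : G, g • a = x ∧ g • b = y ∧ g • b' = z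

theorem T_smul {a b b' x y z : Ω} (g : G) :
    T G a b b' (g • x) (g • y) (g • z) ↔ T G a b b' x y z := by
  constructor
  · rintro ⟨k, h1, h2, h3⟩
    exact ⟨g⁻¹ * k, by rw [mul_smul, h1, inv_smul_smul], by rw [mul_smul, h2, inv_smul_smul],
      by rw [mul_smul, h3, inv_smul_smul]⟩
  · rintro ⟨k, h1, h2, h3⟩
    exact ⟨g * k, by rw [mul_smul, h1], by rw [mul_smul, h2], by rw [mul_smul, h3]⟩

theorem isSquare_neg_one_thirteen : IsSquare (-1 : ZMod 13) := ⟨5, by decide⟩

/-- A non-trivial block of a point stabiliser is impossible for `p > 7`. -/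
theorem no_block [FaithfulSMul G Ω] [Fintype Ω] [Fact p.Prime] (hΩ : Fintype.card Ω = p)
    [IsPretransitive G Ω] (hins : ¬ Group.IsSolvable G) (hp7 : 7 < p) (C : Coords G Ω p)
    {a b b' : Ω} (hab : a ≠ b) (hbb : b ≠ b') (D : BlockData G a b b') : False := by
  classical
  have hp := (Fact.out : p.Prime)
  have hp2 : p ≠ 2 := by omega
  have h2 := two_transitive (G := G) (Ω := Ω) (p := p) (by rw [Nat.card_eq_fintype_card, hΩ]) hins
  have h2' : ∀ {x y z w : Ω}, x ≠ y → z ≠ w → ∃ g : G, g • x = z ∧ g • y = w :=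
    fun {x y z w} h1 h3 => is_two_pretransitive_iff.1 h2 h1 h3
  have hab' : a ≠ b' := fun h => D.ha (h ▸ D.hb')
  set R := T G a b b' with hR
  have hne : ∀ x y z, R x y z → x ≠ y ∧ x ≠ z ∧ y ≠ z := by
    rintro x y z ⟨g, rfl, rfl, rfl⟩
    exact ⟨fun h => hab (smul_left_cancel g h), fun h => hab' (smul_left_cancel g h),
      fun h => hbb (smul_left_cancel g h)⟩
  have three : ∀ {u v w : Ω}, u ≠ a → u ≠ b → v ≠ a → v ≠ b → w ≠ a → w ≠ b →
      ∃ g : G, g • a = a ∧ g • b = b ∧ (g • u = v ∨ g • u = w ∨ g • v = w) :=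
    fun h1 h3 h4 h5 h6 h7 =>
      exists_fixing_of_three hΩ h2 hins hp2 C hab ⟨h1, h3⟩ ⟨h4, h5⟩ ⟨h6, h7⟩
  have hpres : ∀ g : G, g • a = a → g • b = b → ∀ z ∈ D.B, g • z ∈ D.B := fun g ga gb =>
    D.block g ga b D.hb (by rw [gb]; exact D.hb)
  have hout : ∀ g : G, g • a = a → g • b = b → ∀ z, z ∉ D.B → g • z ∉ D.B := by
    intro g ga gb z hz h
    have := hpres g⁻¹ (inv_smul_eq_iff.2 ga.symm) (inv_smul_eq_iff.2 gb.symm) _ h
    rw [inv_smul_smul] at this
    exact hz this
  have ne_a : ∀ {z}, z ∈ D.B → z ≠ a := fun hz h => D.ha (h ▸ hz)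
  have ne_b : ∀ {z}, z ∉ D.B → z ≠ b := fun hz h => hz (h ▸ D.hb)
  have hmem : ∀ z, R a b z ↔ z ∈ D.B ∧ z ≠ b := by
    intro z
    constructor
    · intro h
      refine ⟨?_, (hne _ _ _ h).2.2.symm⟩
      obtain ⟨g, ga, gb, rfl⟩ := h
      exact hpres g ga gb b' D.hb'
    · rintro ⟨hz, hzb⟩
      obtain ⟨g, ga, gb, h | h | h⟩ := three hab'.symm hbb.symm (ne_a hz) hzb D.hxa (ne_b D.hxB)
      · exact ⟨g, ga, gb, h⟩
      · exact absurd (h ▸ hpres g ga gb b' D.hb') D.hxB
      · exact absurd (h ▸ hpres g ga gb z hz) D.hxB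
  have houter : ∀ z w, z ≠ a → z ∉ D.B → w ≠ a → w ∉ D.B →
      ∃ g : G, g • a = a ∧ g • b = b ∧ g • z = w := by
    intro z w hza hz hwa hw
    obtain ⟨g, ga, gb, h | h | h⟩ := three hab'.symm hbb.symm hza (ne_b hz) hwa (ne_b hw)
    · exact absurd (h ▸ hpres g ga gb b' D.hb') hz
    · exact absurd (h ▸ hpres g ga gb b' D.hb') hw
    · exact ⟨g, ga, gb, h⟩
  -- the relation is symmetric in the last two points and transitive
  have hin : ∀ z, R a b z → ∀ w, (w = b ∨ R a b w) → z ≠ w → R a z w := by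
    intro z hz w hw hzw
    obtain ⟨hzB, hzb⟩ := (hmem z).1 hz
    obtain ⟨h, ha', hb'⟩ : ∃ h : G, h • a = a ∧ h • b = z := h2' hab (ne_a hzB).symm
    have hwB : w ∈ D.B := by
      rcases hw with rfl | hw
      · exact D.hb
      · exact ((hmem w).1 hw).1
    have hiz : h⁻¹ • z = b := inv_smul_eq_iff.2 hb'.symm
    have hia : h⁻¹ • a = a := inv_smul_eq_iff.2 ha'.symm
    have hw' : R a b (h⁻¹ • w) := (hmem _).2
      ⟨D.block h⁻¹ hia z hzB (by rw [hiz]; exact D.hb) w hwB,
        fun e => hzw (smul_left_cancel h⁻¹ (hiz.trans e.symm))⟩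
    have := (T_smul h).2 hw'
    rwa [ha', hb', smul_inv_smul] at this
  have hrot : ∀ x y z, R x y z → R x z y := by
    intro x y z h
    obtain ⟨g, rfl, rfl, rfl⟩ := h
    refine (T_smul g).2 (hin b' ⟨1, ?_, ?_, ?_⟩ b (Or.inl rfl) hbb.symm) <;> exact one_smul _ _
  have htr : ∀ x y z w, R x y z → R x y w → z ≠ w → R x z w := by
    intro x y z w h1 h3 hzw
    obtain ⟨g, gx, gy, -⟩ := id h1
    have e : ∀ u, R x y u → R a b (g⁻¹ • u) := by
      intro u hu
      have := (T_smul g⁻¹).2 hu
      rwa [← gx, ← gy, inv_smul_smul, inv_smul_smul] at this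
    have := hin _ (e z (by assumption)) _ (Or.inr (e w h3)) (fun h => hzw (smul_left_cancel _ h))
    have := (T_smul g).2 this
    rwa [gx, smul_inv_smul, smul_inv_smul] at this
  -- the relation is symmetric in the first two points
  obtain ⟨s, hsa, hsb⟩ := h2' hab hab.symm
  have hswap0 : R b a b' := by
    by_cases hsB : s • b' ∈ D.B
    · have hsb'b : s • b' ≠ b := by
        intro e
        rw [← hsa] at e
        exact hab' (smul_left_cancel s e).symm
      obtain ⟨g, ga, gb, gz⟩ := (hmem _).2 ⟨hsB, hsb'b⟩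
      refine ⟨g⁻¹ * s, ?_, ?_, ?_⟩
      · rw [mul_smul, hsa, inv_smul_eq_iff, gb]
      · rw [mul_smul, hsb, inv_smul_eq_iff, ga]
      · rw [mul_smul, inv_smul_eq_iff, gz]
    · exfalso
      set O : Finset Ω := Finset.univ.filter fun z => z ∈ D.B ∧ z ≠ b with hO
      set O' : Finset Ω := Finset.univ.filter fun z => z ∉ D.B ∧ z ≠ a with hO'
      have hsne : s • b' ≠ a := by
        intro e
        rw [← hsb] at e
        exact hbb (smul_left_cancel s e).symm
      have himg : O.image (fun z => s • z) = O' := by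
        ext w
        simp only [hO, hO', Finset.mem_image, Finset.mem_filter, Finset.mem_univ, true_and]
        constructor
        · rintro ⟨z, hz, rfl⟩
          obtain ⟨g, ga, gb, rfl⟩ := (hmem z).2 hz
          have e : (s * g * s⁻¹) • s • b' = s • g • b' := by
            simp [mul_smul]
          have ga' : (s * g * s⁻¹) • a = a := by
            rw [mul_smul, mul_smul, show s⁻¹ • a = b from inv_smul_eq_iff.2 hsb.symm, gb, hsb]
          have gb' : (s * g * s⁻¹) • b = b := by
            rw [mul_smul, mul_smul, show s⁻¹ • b = a from inv_smul_eq_iff.2 hsa.symm, ga, hsa]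
          refine ⟨e ▸ hout _ ga' gb' _ hsB, fun h => hsne ?_⟩
          rw [← e, ← ga'] at h
          exact smul_left_cancel _ (h.trans (by rw [ga']))
        · rintro ⟨hw, hwa⟩
          obtain ⟨k, ka, kb, kz⟩ := houter _ _ hsne hsB hwa hw
          refine ⟨s⁻¹ • w, (hmem _).1 ⟨s⁻¹ * k * s, ?_, ?_, ?_⟩, smul_inv_smul _ _⟩
          · rw [mul_smul, mul_smul, hsa, kb, inv_smul_eq_iff, hsa]
          · rw [mul_smul, mul_smul, hsb, ka, inv_smul_eq_iff, hsb]
          · rw [mul_smul, mul_smul, kz]
      have hcard : O.card = O'.card := by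
        rw [← himg, Finset.card_image_of_injective _ (fun u w h => smul_left_cancel s h)]
      have huniv : (Finset.univ : Finset Ω) = insert a (insert b (O ∪ O')) := by
        ext z
        simp only [Finset.mem_univ, Finset.mem_insert, Finset.mem_union, hO, hO', Finset.mem_filter,
          true_and, true_iff]
        by_cases h : z ∈ D.B <;> by_cases h1 : z = a <;> by_cases h3 : z = b <;> tauto
      have hdis : Disjoint O O' := by
        rw [Finset.disjoint_left]; simp [hO, hO']; tauto
      have : p = 2 * O.card + 2 := by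
        rw [← hΩ, ← Finset.card_univ, huniv, Finset.card_insert_of_notMem, Finset.card_insert_of_notMem,
          Finset.card_union_of_disjoint hdis, ← hcard]
        · ring
        · simp [hO, hO', D.hb]
        · simp only [Finset.mem_insert, Finset.mem_union, hO, hO', Finset.mem_filter, Finset.mem_univ,
            true_and, not_or]
          exact ⟨hab, fun h => D.ha h.1, fun h => h.2 rfl⟩
      have := hp.eq_two_or_odd
      omega
  have hswap : ∀ x y z, R x y z → R y x z := by
    rintro x y z ⟨g, rfl, rfl, rfl⟩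
    exact (T_smul g).2 hswap0
  -- lines
  let L : Ω → Ω → Finset Ω := fun x y => Finset.univ.filter fun z => z = x ∨ z = y ∨ R x y z
  have hL : ∀ x y z, z ∈ L x y ↔ z = x ∨ z = y ∨ R x y z := fun x y z => by simp [L]
  have hLsymm : ∀ x y, L x y = L y x := by
    intro x y; ext z; rw [hL, hL]
    constructor <;> rintro (h | h | h) <;> first
      | exact Or.inl h | exact Or.inr (Or.inl h) | exact Or.inr (Or.inr (hswap _ _ _ h))
  have hLstep : ∀ x y z, R x y z → L x z = L x y := by
    have aux : ∀ x y z, R x y z → ∀ w, w ∈ L x y → w ∈ L x z := by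
      intro x y z h w hw
      rw [hL] at hw ⊢
      by_cases hwz : w = z
      · exact Or.inr (Or.inl hwz)
      rcases hw with hw | rfl | hw
      · exact Or.inl hw
      · exact Or.inr (Or.inr (hrot _ _ _ h))
      · exact Or.inr (Or.inr (htr _ _ _ _ h hw (Ne.symm hwz)))
    intro x y z h
    exact Finset.Subset.antisymm (fun w => aux x z y (hrot _ _ _ h) w) (fun w => aux x y z h w)
  have hLone : ∀ x y w, w ∈ L x y → w ≠ x → L x w = L x y := by
    intro x y w hw hwx
    rcases (hL _ _ _).1 hw with rfl | rfl | h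
    · exact absurd rfl hwx
    · rfl
    · exact hLstep _ _ _ h
  have hLtwo : ∀ x y z w, z ∈ L x y → w ∈ L x y → z ≠ w → L z w = L x y := by
    intro x y z w hz hw hzw
    by_cases hzx : z = x
    · subst hzx; exact hLone _ _ _ hw hzw.symm
    · have e : L z x = L x y := by rw [hLsymm, hLone _ _ _ hz hzx]
      rw [hLone z x w (e ▸ hw) hzw.symm, e]
  have hLsmul : ∀ (g : G) x y z, g • z ∈ L (g • x) (g • y) ↔ z ∈ L x y := by
    intro g x y z
    rw [hL, hL, show R (g • x) (g • y) (g • z) ↔ R x y z from T_smul g, smul_left_cancel_iff,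
      smul_left_cancel_iff]
  have hLcard : ∀ x y, x ≠ y → (L x y).card = (L a b).card := by
    intro x y hxy
    obtain ⟨g, rfl, rfl⟩ := h2' hab hxy
    symm
    refine Finset.card_bij (fun z _ => g • z) (fun z hz => (hLsmul g a b z).2 hz)
      (fun u _ w _ h => smul_left_cancel g h) (fun z hz => ⟨g⁻¹ • z, ?_, smul_inv_smul g z⟩)
    rwa [← hLsmul g, smul_inv_smul]
  set m := (L a b).card with hm
  have hm3 : 3 ≤ m := by
    have hsub : ({a, b, b'} : Finset Ω) ⊆ L a b := by
      intro z hz
      simp only [Finset.mem_insert, Finset.mem_singleton] at hz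
      rw [hL]
      rcases hz with rfl | rfl | rfl
      · exact Or.inl rfl
      · exact Or.inr (Or.inl rfl)
      · exact Or.inr (Or.inr ⟨1, one_smul _ _, one_smul _ _, one_smul _ _⟩)
    refine le_trans ?_ (Finset.card_le_card hsub)
    rw [Finset.card_eq_three.2 ⟨a, b, b', hab, hab', hbb, rfl⟩]
  have hxL : D.x ∉ L a b := by
    rw [hL]
    rintro (h | h | h)
    · exact D.hxa h
    · exact D.hxB (by rw [h]; exact D.hb)
    · exact D.hxB ((hmem _).1 h).1
  have hmp : m < p := by
    rw [← hΩ]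
    exact Finset.card_lt_univ_of_notMem hxL
  have hm0 : (m : ZMod p) ≠ 0 := by
    rw [Ne, ZMod.natCast_eq_zero_iff]
    exact fun h => absurd (Nat.le_of_dvd (by omega) h) (by omega)
  have hnum : ∀ n : ℕ, 0 < n → n < p → ((n : ℕ) : ZMod p) ≠ 0 := fun n h0 h1 h => by
    rw [ZMod.natCast_eq_zero_iff] at h
    exact absurd (Nat.le_of_dvd h0 h) (by omega)
  have htwo : (2 : ZMod p) ≠ 0 := by simpa using hnum 2 (by omega) (by omega)
  -- the invariant function of the line
  let φ : Ω → ZMod p := fun z => (if z ∈ L a b then 1 else 0) -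
    (m : ZMod p) / 2 * ((if z = a then 1 else 0) + (if z = b then 1 else 0))
  have hφ : Inv2 G a b φ := by
    intro g ga gb z
    have e1 : g • z ∈ L a b ↔ z ∈ L a b := by
      conv_lhs => rw [← ga, ← gb]
      exact hLsmul g a b z
    have e2 : g • z = a ↔ z = a := by
      conv_lhs => rw [← ga]
      exact smul_left_cancel_iff g
    have e3 : g • z = b ↔ z = b := by
      conv_lhs => rw [← gb]
      exact smul_left_cancel_iff g
    simp only [φ, e1, e2, e3]
  have hsum : ∑ z, φ z = 0 := by
    simp only [φ, Finset.sum_sub_distrib, ← Finset.mul_sum, Finset.sum_add_distrib]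
    rw [Finset.sum_boole, Finset.filter_univ_mem, ← hm, Finset.sum_ite_eq' Finset.univ a,
      Finset.sum_ite_eq' Finset.univ b]
    simp only [Finset.mem_univ, if_true]
    field_simp
    ring
  set c := C.c with hc
  set S : ZMod p → ZMod p → ZMod p := fun i j => ∑ z ∈ L (c i) (c j), c.symm z with hS
  have hFform : ∀ i j, i ≠ j → F C a b φ i j = S i j - (m : ZMod p) / 2 * (i + j) := by
    intro i j hij
    obtain ⟨g, gi, gj⟩ := h2' hab (fun h => hij (c.injective h) : c i ≠ c j)
    unfold F
    have e : ∀ z, ext G a b φ (C.c i) (C.c j) z = (if z ∈ L (c i) (c j) then 1 else 0) -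
        (m : ZMod p) / 2 * ((if z = c i then 1 else 0) + (if z = c j then 1 else 0)) := by
      intro z
      rw [ext_eq hφ gi gj]
      have e1 : g⁻¹ • z ∈ L a b ↔ z ∈ L (c i) (c j) := by
        rw [← hLsmul g a b, smul_inv_smul, gi, gj]
      have e2 : g⁻¹ • z = a ↔ z = c i := by rw [inv_smul_eq_iff, gi]
      have e3 : g⁻¹ • z = b ↔ z = c j := by rw [inv_smul_eq_iff, gj]
      simp only [φ, e1, e2, e3]
    simp only [e, sub_mul, mul_assoc, add_mul, Finset.sum_sub_distrib, ← Finset.mul_sum,
      Finset.sum_add_distrib, ite_mul, one_mul, zero_mul, Finset.sum_ite_mem, Finset.univ_inter,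
      Finset.sum_ite_eq', Finset.mem_univ, if_true, hS, hc, Equiv.symm_apply_apply]
  have hFsymm : ∀ i j, i ≠ j → F C a b φ i j = F C a b φ j i := by
    intro i j hij
    rw [hFform i j hij, hFform j i hij.symm, hS]
    simp only
    rw [hLsymm, add_comm i j]
  have hdec : ∀ {ν : ZMod p}, ¬ IsSquare ν → F C a b φ 0 1 = 0 → F C a b φ 0 ν = 0 → False := by
    intro ν hν h1 h3
    have := const_of_F_eq_zero hΩ h2 hins hp2 C hab hφ hsum hν h1 h3 D.x b'
    have hb'L : b' ∈ L a b := (hL _ _ _).2 (Or.inr (Or.inr ⟨1, one_smul _ _, one_smul _ _, one_smul _ _⟩))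
    simp [φ, hxL, hb'L, D.hxa, ne_b D.hxB, hab'.symm, hbb.symm] at this
  -- minus one is a non-square
  have hneg : ¬ IsSquare (-1 : ZMod p) := by
    intro h
    obtain ⟨ν, hν⟩ := exists_nonsquare (p := p) hp2
    have hzero : ∀ r : ZMod p, r ≠ 0 → F C a b φ 0 r = 0 := by
      intro r hr
      have h1 : F C a b φ r 0 = (0 - r) / r * F C a b φ 0 r :=
        F_eq h2 C hab hφ hsum hr hr (by rwa [zero_sub, neg_div, div_self hr])
      rw [← hFsymm 0 r hr.symm, zero_sub, neg_div, div_self hr] at h1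
      exact (mul_eq_zero.1 (show (2 : ZMod p) * F C a b φ 0 r = 0 by linear_combination h1)).resolve_left htwo
    exact hdec hν (hzero 1 one_ne_zero) (hzero ν fun h0 => hν (h0 ▸ IsSquare.zero))
  set A := F C a b φ 0 1 with hA
  have hFsq : ∀ i j, i ≠ j → IsSquare (j - i) → F C a b φ i j = A * (j - i) := by
    intro i j hij hd
    rw [F_eq h2 C hab hφ hsum one_ne_zero hij (by rwa [div_one]), div_one, mul_comm]
  have hFnsq : ∀ i j, i ≠ j → ¬ IsSquare (j - i) → F C a b φ i j = -(A * (j - i)) := by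
    intro i j hij hd
    have h' : IsSquare (i - j) := by
      have := isSquare_div_nonsquare hneg hd
      rwa [div_neg, div_one, neg_sub] at this
    rw [hFsymm i j hij, hFsq j i hij.symm h']
    ring
  have hF2 : ∀ i j, i ≠ j → F C a b φ i j ^ 2 = A ^ 2 * (j - i) ^ 2 := by
    intro i j hij
    by_cases h : IsSquare (j - i)
    · rw [hFsq i j hij h]; ring
    · rw [hFnsq i j hij h]; ring
  have hA0 : A ≠ 0 := by
    intro h
    refine hdec hneg h ?_
    rw [hFnsq 0 (-1) (Ne.symm (neg_ne_zero.2 one_ne_zero)) (by rwa [sub_zero]), h, zero_mul, neg_zero]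
  -- lines have exactly three points
  have hm' : m = 3 := by
    by_contra hne3
    obtain ⟨i0, hi0⟩ := c.surjective a
    obtain ⟨j0, hj0⟩ := c.surjective b
    set Lc : Finset (ZMod p) := (L a b).map c.symm.toEmbedding with hLc
    have hLccard : Lc.card = m := Finset.card_map _
    set S0 : ZMod p := ∑ z ∈ L a b, c.symm z with hS0
    have hkey : ∀ i ∈ Lc, ∀ j ∈ Lc, i ≠ j →
        ((i - S0 / m) + (j - S0 / m)) ^ 2 = (2 * A / m) ^ 2 * ((i - S0 / m) - (j - S0 / m)) ^ 2 := by
      intro i hi j hj hij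
      rw [hLc, Finset.mem_map_equiv, Equiv.symm_symm] at hi hj
      have e := hF2 i j hij
      rw [hFform i j hij, hS] at e
      simp only at e
      rw [hLtwo _ _ _ _ hi hj (fun h => hij (c.injective h)), ← hS0] at e
      obtain ⟨u, hu, hu'⟩ : ∃ u, u = S0 / (m : ZMod p) ∧ S0 = (m : ZMod p) * u :=
        ⟨_, rfl, by field_simp⟩
      rw [hu'] at e
      rw [← hu]
      have hh : (m : ZMod p) / 2 * 2 = m := div_mul_cancel₀ _ htwo
      generalize (m : ZMod p) / 2 = k at e hh
      have e2 : ((m : ZMod p) * ((i - u) + (j - u))) ^ 2 = (2 * A) ^ 2 * ((i - u) - (j - u)) ^ 2 := by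
        rw [← hh] at e ⊢
        linear_combination 4 * e
      field_simp
      linear_combination e2
    have h4 : 4 ≤ Lc.card := by omega
    -- pick a point off the centre
    obtain ⟨i, hi, hi'⟩ : ∃ i ∈ Lc, i - S0 / m ≠ 0 := by
      by_contra hh
      push Not at hh
      have : Lc ⊆ {S0 / (m : ZMod p)} := fun i hi => Finset.mem_singleton.2 (sub_eq_zero.1 (hh i hi))
      have := Finset.card_le_card this
      rw [Finset.card_singleton] at this
      omega
    obtain ⟨r1, r2, r3, hr1, hr2, hr3, h12, h13, h23⟩ := Finset.two_lt_card_iff.1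
      (show 2 < (Lc.erase i).card by rw [Finset.card_erase_of_mem hi]; omega)
    have q : ∀ r ∈ Lc.erase i, ((i - S0 / m) + (r - S0 / m)) ^ 2 =
        (2 * A / m) ^ 2 * ((i - S0 / m) - (r - S0 / m)) ^ 2 := fun r hr =>
      hkey i hi r (Finset.mem_of_mem_erase hr) (Finset.ne_of_mem_erase hr).symm
    have q1 := q r1 hr1
    have q2 := q r2 hr2
    have q3 := q r3 hr3
    generalize (2 * A / (m : ZMod p)) ^ 2 = B at q1 q2 q3
    generalize hx : i - S0 / (m : ZMod p) = X at q1 q2 q3 hi'
    have d12 : (1 - B) * ((r1 - S0 / m) + (r2 - S0 / m)) + 2 * (1 + B) * X = 0 := by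
      refine (mul_eq_zero.1 (show (r1 - r2) * ((1 - B) * ((r1 - S0 / m) + (r2 - S0 / m)) + 2 * (1 + B) * X) = 0
        by linear_combination q1 - q2)).resolve_left (sub_ne_zero.2 h12)
    have d13 : (1 - B) * ((r1 - S0 / m) + (r3 - S0 / m)) + 2 * (1 + B) * X = 0 := by
      refine (mul_eq_zero.1 (show (r1 - r3) * ((1 - B) * ((r1 - S0 / m) + (r3 - S0 / m)) + 2 * (1 + B) * X) = 0
        by linear_combination q1 - q3)).resolve_left (sub_ne_zero.2 h13)
    have hB : 1 - B = 0 := (mul_eq_zero.1 (show (1 - B) * (r2 - r3) = 0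
      by linear_combination d12 - d13)).resolve_right (sub_ne_zero.2 h23)
    exact hi' ((mul_eq_zero.1 (show (2 : ZMod p) * 2 * X = 0 by
      linear_combination d12 - ((r1 - S0 / m) + (r2 - S0 / m) - 2 * X) * hB)).resolve_left
      (mul_ne_zero htwo htwo))
  -- the third point
  set ρ : ZMod p := 1 / 2 + A with hρ
  have hthird : ∀ i j, i ≠ j → ∀ z, R (c i) (c j) z ↔ z = c (tt ρ i j) := by
    intro i j hij
    have hne' : c i ≠ c j := fun h => hij (c.injective h)
    obtain ⟨g, gi, gj⟩ := h2' hab hne'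
    have hR : R (c i) (c j) (g • b') := ⟨g, gi, gj, rfl⟩
    obtain ⟨-, hiz, hjz⟩ := hne _ _ _ hR
    have hLeq : L (c i) (c j) = {c i, c j, g • b'} := by
      symm
      refine Finset.eq_of_subset_of_card_le ?_ ?_
      · intro z hz
        simp only [Finset.mem_insert, Finset.mem_singleton] at hz
        rw [hL]
        rcases hz with h | h | h
        · exact Or.inl h
        · exact Or.inr (Or.inl h)
        · exact Or.inr (Or.inr (h ▸ hR))
      · rw [hLcard _ _ hne', hm',
          Finset.card_eq_three.2 ⟨c i, c j, g • b', hne', hiz, hjz, rfl⟩]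
    have e := hFform i j hij
    rw [hS] at e
    simp only at e
    rw [hLeq, Finset.sum_insert (by simp [hne', hiz]), Finset.sum_insert (by simp [hjz]),
      Finset.sum_singleton, Equiv.symm_apply_apply, Equiv.symm_apply_apply, hm'] at e
    have hz : g • b' = c (tt ρ i j) := by
      rw [← c.apply_symm_apply (g • b')]
      congr 1
      unfold tt
      push_cast at e
      split_ifs with hd
      · rw [hFsq i j hij hd] at e
        rw [hρ]; field_simp at e ⊢; linear_combination -e
      · rw [hFnsq i j hij hd] at e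
        rw [hρ]; field_simp at e ⊢; linear_combination -e
    intro z
    constructor
    · intro h
      have : z ∈ L (c i) (c j) := (hL _ _ _).2 (Or.inr (Or.inr h))
      rw [hLeq] at this
      simp only [Finset.mem_insert, Finset.mem_singleton] at this
      obtain ⟨-, h1, h3⟩ := hne _ _ _ h
      rcases this with h' | h' | h'
      · exact absurd h'.symm h1
      · exact absurd h'.symm h3
      · rw [h', hz]
    · intro h; rw [h, ← hz]; exact hR
  have hρ01 : tt ρ 0 1 = ρ := by rw [tt_sq ρ (i := (0 : ZMod p)) 1 (by ring) IsSquare.one]; ring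
  have hRρ : R (c 0) (c 1) (c ρ) := (hthird 0 1 zero_ne_one _).2 (by rw [hρ01])
  obtain ⟨-, hρ0', hρ1'⟩ := hne _ _ _ hRρ
  have hρ1 : ρ ≠ 1 := fun h => hρ1' (by rw [h])
  have hρ0 : (0 : ZMod p) ≠ ρ := fun h => hρ0' (by rw [h])
  have h13 : p ≠ 13 := by
    intro h
    subst h
    exact hneg isSquare_neg_one_thirteen
  refine netto_false htwo ?_ ?_ ?_ hneg ?_ ρ hρ1 ?_ ?_
  · simpa using hnum 3 (by omega) (by omega)
  · simpa using hnum 7 (by omega) hp7
  · intro h
    have h' : ((13 : ℕ) : ZMod p) = 0 := by exact_mod_cast h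
    rw [ZMod.natCast_eq_zero_iff] at h'
    exact h13 ((Nat.prime_dvd_prime_iff_eq hp (by norm_num)).1 h')
  · intro u v hu hv
    have hv0 : v ≠ 0 := fun h => hv (h ▸ IsSquare.zero)
    have h' := isSquare_div_nonsquare hv hu
    have : u * v = u / v * (v * v) := by field_simp
    rw [this]
    exact h'.mul ⟨v, rfl⟩
  · exact (c.injective ((hthird 0 ρ hρ0 _).1 (hrot _ _ _ hRρ))).symm
  · -- transitivity on triangles
    intro u u' u0 u1 uρ u0' u1' uρ'
    obtain ⟨k, k0, k1⟩ := h2' hab (fun h => zero_ne_one (c.injective h) : c 0 ≠ c 1)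
    have houtside : ∀ v, v ≠ 0 → v ≠ 1 → v ≠ ρ → k⁻¹ • c v ∉ D.B ∧ k⁻¹ • c v ≠ a := by
      intro v v0 v1 vρ
      have hna : k⁻¹ • c v ≠ a := by
        intro h
        rw [inv_smul_eq_iff, k0] at h
        exact v0 (c.injective h)
      refine ⟨fun h => ?_, hna⟩
      by_cases hb : k⁻¹ • c v = b
      · rw [inv_smul_eq_iff, k1] at hb
        exact v1 (c.injective hb)
      · have hR' := (T_smul k).2 ((hmem _).2 ⟨h, hb⟩)
        rw [k0, k1, smul_inv_smul] at hR'
        have := c.injective ((hthird 0 1 zero_ne_one _).1 hR')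
        rw [hρ01] at this
        exact vρ this
    obtain ⟨hu, hua⟩ := houtside u u0 u1 uρ
    obtain ⟨hu', hua'⟩ := houtside u' u0' u1' uρ'
    obtain ⟨g, ga, gb, gu⟩ := houter _ _ hua hu hua' hu'
    refine ⟨fun i => c.symm ((k * g * k⁻¹) • c i), ?_, ?_, ?_, ?_, ?_⟩
    · simp [mul_smul, ← k0, ga, Equiv.symm_apply_eq]
    · simp [mul_smul, ← k1, gb, Equiv.symm_apply_eq]
    · simp [mul_smul, gu]
    · exact fun i j h => c.injective (smul_left_cancel _ (c.symm.injective h))
    · intro i j hij
      set σ := fun i => c.symm ((k * g * k⁻¹) • c i) with hσ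
      have hne2 : σ i ≠ σ j := fun h =>
        hij (c.injective (smul_left_cancel _ (c.symm.injective h)))
      have hR' := (T_smul (k * g * k⁻¹)).2 ((hthird i j hij _).2 rfl)
      have := (hthird (σ i) (σ j) hne2 _).1 (by simpa [hσ] using hR')
      show c.symm _ = _
      rw [this, Equiv.symm_apply_apply]

end Cfsg.Agent.Lie.HalfNormalizer
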