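import Mathlib
import Cfsg.Prelude.Def_Perm
import Cfsg.Agent.S0674
import Cfsg.Agent.Lib.Perm.PrimeDegree
import Cfsg.Agent.Lib.Perm.Basic

/-!
# Transitive groups of prime degree with half Sylow normaliser: coordinates

A transitive group of prime degree `p` whose Sylow `p`-normaliser has order `p (p - 1) / 2`
contains, in suitable coordinates, all maps `i ↦ a * i + t` with `a` a non-zero square.
-/

set_option autoImplicit false
set_option linter.style.haveILetI false

namespace Cfsg.Agent.Lie.HalfNormalizer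

open MulAction

variable {G Ω : Type*} [Group G] [MulAction G Ω] {p : ℕ}

/-- Coordinates in which all affine maps with square multiplier are realised. -/
structure Coords (G Ω : Type*) [Group G] [MulAction G Ω] (p : ℕ) where
  c : ZMod p ≃ Ω
  affine : ∀ a t : ZMod p, IsSquare a → a ≠ 0 → ∃ g : G, ∀ i, g • c i = c (a * i + t)

theorem sylow_card [Finite G] [FaithfulSMul G Ω] [Finite Ω] [Fact p.Prime] (hΩ : Nat.card Ω = p)
    [IsPretransitive G Ω] (P : Sylow p G) : Nat.card (P : Subgroup G) = p := by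
  have hp := (Fact.out : p.Prime)
  haveI : Nonempty Ω := (Nat.card_pos_iff.1 (hΩ ▸ hp.pos)).1
  obtain ⟨a⟩ := ‹Nonempty Ω›
  have hdvd : p ∣ Nat.card G := by
    rw [← hΩ, ← MulAction.index_stabilizer_of_transitive G a]
    exact Subgroup.index_dvd_card _
  have hfac : Nat.card G ∣ p.factorial := by
    have h := Subgroup.card_subgroup_dvd_card (MulAction.toPermHom G Ω).range
    rw [Nat.card_perm, hΩ,
      ← Nat.card_congr (MonoidHom.ofInjective MulAction.toPerm_injective).toEquiv] at h
    exact h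
  obtain ⟨k, hk⟩ := P.isPGroup'.exists_card_eq
  have h1 : p ∣ Nat.card (P : Subgroup G) := P.dvd_card_of_dvd_card hdvd
  rw [hk] at h1 ⊢
  rcases k with _ | _ | k
  · simp at h1; exact absurd h1 hp.one_lt.ne'
  · simp
  · exfalso
    have h4 : p * p ∣ p.factorial := by
      refine dvd_trans ?_ ((hk ▸ Subgroup.card_subgroup_dvd_card (P : Subgroup G)).trans hfac)
      rw [← pow_two]; exact pow_dvd_pow p (by omega)
    rw [← Nat.mul_factorial_pred hp.ne_zero] at h4
    have := hp.dvd_factorial.1 ((Nat.mul_dvd_mul_iff_left hp.pos).1 h4)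
    have := hp.two_le
    omega

theorem five_le [Finite G] [FaithfulSMul G Ω] [Finite Ω] [Fact p.Prime] (hΩ : Nat.card Ω = p)
    [IsPretransitive G Ω] (hins : ¬ Group.IsSolvable G) (P : Sylow p G)
    (hN : 2 * Nat.card ↥(Subgroup.normalizer ((P : Subgroup G) : Set G)) = p * (p - 1)) : 5 ≤ p := by
  have hp := (Fact.out : p.Prime)
  have hP := sylow_card hΩ P
  have hfac : Nat.card G ∣ p.factorial := by
    have h := Subgroup.card_subgroup_dvd_card (MulAction.toPermHom G Ω).range
    rw [Nat.card_perm, hΩ,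
      ← Nat.card_congr (MonoidHom.ofInjective MulAction.toPerm_injective).toEquiv] at h
    exact h
  by_contra hlt
  have hle : p ≤ 4 := by omega
  have hdvdN : p ∣ Nat.card ↥(Subgroup.normalizer ((P : Subgroup G) : Set G)) := by
    have := Subgroup.card_dvd_of_le
      (Subgroup.le_normalizer (H := (P : Subgroup G)))
    rwa [hP] at this
  have := hp.two_le
  interval_cases p
  · have h2 := Nat.le_of_dvd Nat.card_pos hdvdN
    simp only [Nat.reduceMul, Nat.reduceSub] at hN
    omega
  · have hN3 : Nat.card ↥(Subgroup.normalizer ((P : Subgroup G) : Set G)) = 3 := by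
      simp only [Nat.reduceMul, Nat.reduceSub] at hN; omega
    have h6 : Nat.card G ∣ 6 := by simpa [Nat.factorial] using hfac
    have h3 : 3 ∣ Nat.card G := hP ▸ Subgroup.card_subgroup_dvd_card (P : Subgroup G)
    have hG : Nat.card G = 3 := by
      have h6' := Nat.le_of_dvd (by norm_num) h6
      by_contra hne
      have hG6 : Nat.card G = 6 := by interval_cases Nat.card G <;> omega
      have hi : (P : Subgroup G).index = 2 := by
        have := Subgroup.card_mul_index (P : Subgroup G)
        rw [hP, hG6] at this; omega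
      have := Subgroup.normal_of_index_eq_two hi
      rw [Subgroup.normalizer_eq_top_iff.2 this, Subgroup.card_top, hG6] at hN3
      omega
    haveI : Fact (Nat.Prime 3) := ⟨hp⟩
    haveI : IsCyclic G := isCyclic_of_prime_card hG
    refine hins (Group.isSolvable_of_comm fun a b => ?_)
    obtain ⟨g, hg⟩ := IsCyclic.exists_generator (α := G)
    obtain ⟨i, rfl⟩ := Subgroup.mem_zpowers_iff.1 (hg a)
    obtain ⟨j, rfl⟩ := Subgroup.mem_zpowers_iff.1 (hg b)
    rw [← zpow_add, ← zpow_add, add_comm]
  · norm_num at hp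

/-- A transitive group of prime degree with half Sylow normaliser has square-affine coordinates. -/
theorem exists_coords [Finite G] [FaithfulSMul G Ω] [Finite Ω] [Fact p.Prime] (hΩ : Nat.card Ω = p)
    [IsPretransitive G Ω] (hp2 : p ≠ 2) (P : Sylow p G)
    (hN : 2 * Nat.card ↥(Subgroup.normalizer ((P : Subgroup G) : Set G)) = p * (p - 1)) :
    Nonempty (Coords G Ω p) := by
  classical
  have hp := (Fact.out : p.Prime)
  haveI : Fintype Ω := Fintype.ofFinite Ω
  have hΩ' : Fintype.card Ω = p := by rw [← Nat.card_eq_fintype_card, hΩ]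
  have hPc := sylow_card hΩ P
  obtain ⟨sP, hsP⟩ := exists_prime_orderOf_dvd_card' (G := (P : Subgroup G)) p (by rw [hPc])
  set S : G := (sP : G) with hSdef
  have hS : orderOf S = p := by rw [hSdef, Subgroup.orderOf_coe, hsP]
  have hgen : (P : Subgroup G) = Subgroup.zpowers S := by
    refine (Subgroup.eq_of_le_of_card_ge ((Subgroup.zpowers_le).2 sP.2) ?_).symm
    rw [Nat.card_zpowers, hS, hPc]
  let pw : ZMod p → G := fun i => S ^ i.val
  have hpw : ∀ n : ℕ, pw (n : ZMod p) = S ^ n := fun n => by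
    show S ^ _ = S ^ n
    rw [ZMod.val_natCast, ← hS, pow_mod_orderOf]
  have hpwadd : ∀ i j, pw (i + j) = pw i * pw j := fun i j => by
    rw [← ZMod.natCast_zmod_val i, ← ZMod.natCast_zmod_val j, ← Nat.cast_add, hpw, hpw, hpw, pow_add]
  have hpw0 : pw 0 = 1 := by simpa using hpw 0
  have hpw1 : pw 1 = S := by simpa using hpw 1
  have hpwP : ∀ g ∈ (P : Subgroup G), ∃ i, g = pw i := by
    intro g hg
    rw [hgen] at hg
    obtain ⟨n, hn⟩ := (mem_powers_iff_mem_zpowers (x := S)).2 hg
    exact ⟨(n : ZMod p), by rw [hpw]; exact hn.symm⟩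
  haveI : Nonempty Ω := (Nat.card_pos_iff.1 (hΩ ▸ hp.pos)).1
  obtain ⟨a₀⟩ := ‹Nonempty Ω›
  -- the cycle
  set σ : Equiv.Perm Ω := MulAction.toPermHom G Ω S with hσdef
  have hσ : orderOf σ = p := by
    rw [hσdef, orderOf_injective _ MulAction.toPerm_injective, hS]
  have hcyc : σ.IsCycle :=
    Equiv.Perm.isCycle_of_prime_order'' (hΩ' ▸ hp) (by rw [hσ, hΩ'])
  have hsupp : σ.support = Finset.univ := by
    rw [← Finset.card_eq_iff_eq_univ, ← hcyc.orderOf, hσ, hΩ']
  have hmove : ∀ x, σ x ≠ x := fun x => Equiv.Perm.mem_support.1 (hsupp ▸ Finset.mem_univ x)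
  have hreach : ∀ x : Ω, ∃ i : ZMod p, pw i • a₀ = x := by
    intro x
    obtain ⟨i, hi⟩ := hcyc.exists_pow_eq (hmove a₀) (hmove x)
    refine ⟨(i : ZMod p), ?_⟩
    rw [hpw, ← hi, hσdef, ← map_pow]
    rfl
  have hbij : Function.Bijective fun i : ZMod p => pw i • a₀ := by
    rw [Fintype.bijective_iff_surjective_and_card]
    exact ⟨hreach, by rw [ZMod.card, hΩ']⟩
  let c : ZMod p ≃ Ω := Equiv.ofBijective _ hbij
  have hc : ∀ i j, pw i • c j = c (i + j) := fun i j => by
    show pw i • pw j • a₀ = pw (i + j) • a₀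
    rw [hpwadd, mul_smul]
  have hpwinj : Function.Injective pw := fun i j h => hbij.1 (by simp only [h])
  -- the multiplier of an element of the normaliser
  set N := Subgroup.normalizer ((P : Subgroup G) : Set G) with hNdef
  have hmult : ∀ g : N, ∃ k : ZMod p, ∀ i, (g : G) * pw i * (g : G)⁻¹ = pw (k * i) := by
    intro g
    obtain ⟨k, hk⟩ := hpwP _ ((Subgroup.mem_normalizer_iff.1 g.2 S).1 sP.2)
    refine ⟨k, fun i => ?_⟩
    have h1 : ∀ n : ℕ, (g : G) * pw (n : ZMod p) * (g : G)⁻¹ = pw (k * n) := by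
      intro n
      induction n with
      | zero => simp [hpw0]
      | succ n ih =>
        rw [Nat.cast_succ, hpwadd, hpw1, mul_add, mul_one, hpwadd, ← ih, ← hk]
        group
    rw [← ZMod.natCast_zmod_val i]; exact h1 _
  choose mu hmu using hmult
  have hmu1 : ∀ (g : N) (k : ZMod p), (g : G) * pw 1 * (g : G)⁻¹ = pw k → mu g = k := by
    intro g k h
    exact hpwinj (by rw [← h, hmu g 1, mul_one])
  let μ : N →* ZMod p :=
    { toFun := mu
      map_one' := hmu1 1 1 (by simp)
      map_mul' := fun g h => hmu1 _ _ (by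
        rw [← hmu g (mu h), ← mul_one (mu h), ← hmu h 1]
        simp only [Subgroup.coe_mul, mul_inv_rev, mul_one]
        group) }
  let ν : N →* (ZMod p)ˣ := μ.toHomUnits
  have hν : ∀ g, ((ν g : (ZMod p)ˣ) : ZMod p) = mu g := fun g => rfl
  have hker : ν.ker ≤ (P : Subgroup G).subgroupOf N := by
    intro g hg
    rw [MonoidHom.mem_ker] at hg
    have h1 : mu g = 1 := by rw [← hν, hg, Units.val_one]
    obtain ⟨t, ht⟩ := hreach ((g : G) • a₀)
    rw [Subgroup.mem_subgroupOf]
    have : (g : G) = pw t := by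
      refine eq_of_smul_eq_smul fun x : Ω => ?_
      obtain ⟨i, rfl⟩ := hreach x
      have e := hmu g i
      rw [h1, one_mul, mul_inv_eq_iff_eq_mul] at e
      rw [← mul_smul, e, mul_smul, ← ht, ← mul_smul, ← mul_smul, ← hpwadd, ← hpwadd, add_comm]
    rw [this, hgen]
    exact Subgroup.pow_mem _ (Subgroup.mem_zpowers S) _
  have hkc : Nat.card ν.ker ≤ p := by
    refine (Subgroup.card_le_of_le hker).trans (le_of_eq ?_)
    rw [Nat.card_congr (Subgroup.subgroupOfEquivOfLe Subgroup.le_normalizer).toEquiv, hPc]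
  -- the image consists of the squares
  have himg : (p - 1) / 2 ≤ Nat.card ν.range := by
    have h1 := Subgroup.card_eq_card_quotient_mul_card_subgroup ν.ker
    rw [Nat.card_congr (QuotientGroup.quotientKerEquivRange ν).toEquiv] at h1
    have h2 : p * (p - 1) ≤ p * (2 * Nat.card ν.range) := by
      rw [← hN, h1]
      nlinarith
    have := Nat.le_of_mul_le_mul_left h2 hp.pos
    omega
  have hodd : p % 2 = 1 := hp.eq_two_or_odd.resolve_left hp2
  have hsq : ∀ a : ZMod p, IsSquare a → a ≠ 0 → ∃ g : N, mu g = a := by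
    intro a ha ha0
    -- a subgroup of index at most two contains all squares
    have hidx : ν.range.index ≤ 2 := by
      have h1 := Subgroup.card_mul_index ν.range
      rw [Nat.card_eq_fintype_card (α := (ZMod p)ˣ), ZMod.card_units] at h1
      by_contra hgt
      have h3 : Nat.card ν.range * 3 ≤ p - 1 := h1 ▸ Nat.mul_le_mul_left _ (by omega)
      have := hp.two_le
      omega
    obtain ⟨b, rfl⟩ := ha
    have hb : b ≠ 0 := fun h => ha0 (by rw [h, mul_zero])
    have hmem : (Units.mk0 b hb) ^ 2 ∈ ν.range := by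
      have hpos : ν.range.index ≠ 0 := Subgroup.index_ne_zero_of_finite
      rcases (show ν.range.index = 1 ∨ ν.range.index = 2 by omega) with h | h
      · rw [Subgroup.index_eq_one.1 h]; exact Subgroup.mem_top _
      · exact Subgroup.sq_mem_of_index_two h _
    obtain ⟨g, hg⟩ := hmem
    refine ⟨g, ?_⟩
    rw [← hν, hg]
    simp [pow_two]
  refine ⟨⟨c, fun a t ha ha0 => ?_⟩⟩
  obtain ⟨g, hg⟩ := hsq a ha ha0
  obtain ⟨u, hu⟩ := hreach ((g : G) • a₀)
  refine ⟨pw (t - u) * g, fun i => ?_⟩
  show (pw (t - u) * g) • pw i • a₀ = pw (a * i + t) • a₀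
  have e := hmu g i
  rw [hg, mul_inv_eq_iff_eq_mul] at e
  rw [← mul_smul, mul_assoc, e, mul_smul, mul_smul, ← hu, ← mul_smul, ← mul_smul, ← hpwadd, ← hpwadd]
  congr 2
  ring

/-- The insoluble image of the group in the symmetric group. -/
theorem range_not_solvable [FaithfulSMul G Ω] (hins : ¬ Group.IsSolvable G) :
    ¬ Group.IsSolvable (MulAction.toPermHom G Ω).range := by
  intro h
  haveI := h
  exact hins (Group.isSolvable_of_isSolvable_injective (f := (MulAction.toPermHom G Ω).rangeRestrict)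
    (fun x y e => MulAction.toPerm_injective (congrArg Subtype.val e)))

/-- An insoluble transitive group of prime degree is doubly transitive. -/
theorem two_transitive [FaithfulSMul G Ω] [Finite Ω] [Fact p.Prime] (hΩ : Nat.card Ω = p)
    [IsPretransitive G Ω] (hins : ¬ Group.IsSolvable G) : IsMultiplyPretransitive G Ω 2 := by
  classical
  haveI : Fintype Ω := Fintype.ofFinite Ω
  set H := (MulAction.toPermHom G Ω).range with hH
  haveI : IsPretransitive H Ω := ⟨fun x y => by
    obtain ⟨g, hg⟩ := MulAction.exists_smul_eq G x y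
    exact ⟨⟨_, g, rfl⟩, hg⟩⟩
  have h2 : IsMultiplyPretransitive H Ω 2 :=
    (Perm.burnside_prime_degree (by rw [← Nat.card_eq_fintype_card, hΩ]) H).resolve_left
      (range_not_solvable hins)
  rw [is_two_pretransitive_iff] at h2 ⊢
  intro a b c d hab hcd
  obtain ⟨⟨_, g, rfl⟩, h1, h3⟩ := h2 hab hcd
  exact ⟨g, h1, h3⟩

/-- An invariant space of functions containing the constants and a non-constant sum-zero function
contains every sum-zero function. -/
theorem sum_zero_mem [FaithfulSMul G Ω] [Fintype Ω] [Fact p.Prime] (hΩ : Fintype.card Ω = p)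
    [IsPretransitive G Ω] (hins : ¬ Group.IsSolvable G) (W : Submodule (ZMod p) (Ω → ZMod p))
    (hW : ∀ (g : G), ∀ f ∈ W, (fun x => f (g⁻¹ • x)) ∈ W) (h1 : (fun _ => (1 : ZMod p)) ∈ W)
    (hWs : ∀ f ∈ W, ∑ x, f x = 0) {v : Ω → ZMod p} (hv : v ∈ W) {x y : Ω} (hxy : v x ≠ v y)
    {f : Ω → ZMod p} (hf : ∑ x, f x = 0) : f ∈ W := by
  classical
  set H := (MulAction.toPermHom G Ω).range with hH
  haveI : IsPretransitive H Ω := ⟨fun x y => by
    obtain ⟨g, hg⟩ := MulAction.exists_smul_eq G x y
    exact ⟨⟨_, g, rfl⟩, hg⟩⟩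
  let W' : Subrepresentation (Cfsg.permRep (ZMod p) H Ω) :=
    { toSubmodule := W
      apply_mem_toSubmodule := by
        rintro ⟨_, g, rfl⟩ f hf
        exact hW g f hf }
  have hc : (Cfsg.permConstants (ZMod p) H Ω).toSubmodule ≤ W'.toSubmodule :=
    Submodule.span_le.2 (by simpa [W'] using h1)
  rcases Cfsg.Agent.S0674.result hΩ H (range_not_solvable hins) W' hc hWs with h | h
  · exfalso
    have hv' : v ∈ W'.toSubmodule := hv
    rw [h] at hv'
    obtain ⟨r, hr⟩ := Submodule.mem_span_singleton.1 hv'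
    exact hxy (by rw [← hr]; rfl)
  · have : f ∈ W'.toSubmodule := by rw [h]; exact hf
    exact this

end Cfsg.Agent.Lie.HalfNormalizer
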