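import Cfsg.Agent.Lib.Lie.HalfNormalizer.Coords

/-!
# Half Sylow normaliser: two-point stabilisers have at most four orbits

Functions invariant under a two-point stabiliser give equivariant maps from the sum-zero functions
to functions on ordered pairs; such a map is determined by the value of the coordinate function
at two pairs.
-/

set_option autoImplicit false
set_option linter.style.haveILetI false

namespace Cfsg.Agent.Lie.HalfNormalizer

open MulAction

variable {G Ω : Type*} [Group G] [MulAction G Ω] {p : ℕ}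

/-- Invariance of a function under the stabiliser of two points. -/
def Inv2 (G : Type*) {Ω K : Type*} [Group G] [MulAction G Ω] (a b : Ω) (φ : Ω → K) : Prop :=
  ∀ g : G, g • a = a → g • b = b → ∀ z, φ (g • z) = φ z

open scoped Classical in
/-- Transport of a function attached to the pair `(a, b)` to the pair `(x, y)`. -/
noncomputable def ext (G : Type*) {Ω K : Type*} [Group G] [MulAction G Ω] (a b : Ω) (φ : Ω → K)
    (x y z : Ω) : K :=
  if h : ∃ g : G, g • a = x ∧ g • b = y then φ (h.choose⁻¹ • z) else φ z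

theorem ext_eq {K : Type*} {a b : Ω} {φ : Ω → K} (hφ : Inv2 G a b φ) {g : G} {x y : Ω}
    (hx : g • a = x) (hy : g • b = y) (z : Ω) : ext G a b φ x y z = φ (g⁻¹ • z) := by
  classical
  have h : ∃ g : G, g • a = x ∧ g • b = y := ⟨g, hx, hy⟩
  rw [ext, dif_pos h]
  obtain ⟨h1, h2⟩ := h.choose_spec
  set k := h.choose
  have := hφ (g⁻¹ * k) (by rw [mul_smul, h1, ← hx, inv_smul_smul])
    (by rw [mul_smul, h2, ← hy, inv_smul_smul]) (k⁻¹ • z)
  rw [mul_smul, smul_inv_smul] at this
  exact this.symm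

theorem ext_smul {K : Type*} (h2 : IsMultiplyPretransitive G Ω 2) {a b : Ω} (hab : a ≠ b)
    {φ : Ω → K} (hφ : Inv2 G a b φ) (g : G) {x y : Ω} (hxy : x ≠ y) (z : Ω) :
    ext G a b φ (g • x) (g • y) (g • z) = ext G a b φ x y z := by
  rw [is_two_pretransitive_iff] at h2
  obtain ⟨k, hx, hy⟩ := h2 hab hxy
  rw [ext_eq hφ hx hy, ext_eq hφ (g := g * k) (by rw [mul_smul, hx]) (by rw [mul_smul, hy]),
    mul_inv_rev, mul_smul, inv_smul_smul]

theorem ext_self {K : Type*} {a b : Ω} {φ : Ω → K} (hφ : Inv2 G a b φ) (z : Ω) :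
    ext G a b φ a b z = φ z := by
  rw [ext_eq hφ (g := 1) (one_smul _ _) (one_smul _ _), inv_one, one_smul]

/-- The image of the coordinate function at the pair `(i, j)`. -/
noncomputable def F [Fintype Ω] (C : Coords G Ω p) (a b : Ω) (φ : Ω → ZMod p) (i j : ZMod p) : ZMod p :=
  ∑ z, ext G a b φ (C.c i) (C.c j) z * C.c.symm z

theorem sum_ext [Fintype Ω] (h2 : IsMultiplyPretransitive G Ω 2) {K : Type*} [AddCommMonoid K]
    {a b : Ω} (hab : a ≠ b) {φ : Ω → K} (hφ : Inv2 G a b φ) {x y : Ω} (hxy : x ≠ y) :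
    ∑ z, ext G a b φ x y z = ∑ z, φ z := by
  rw [is_two_pretransitive_iff] at h2
  obtain ⟨g, hx, hy⟩ := h2 hab hxy
  refine (Fintype.sum_equiv (MulAction.toPerm g) _ _ fun z => ?_).symm
  rw [MulAction.toPerm_apply, ext_eq hφ hx hy, inv_smul_smul]

theorem F_affine [Fintype Ω] (h2 : IsMultiplyPretransitive G Ω 2) (C : Coords G Ω p) {a b : Ω}
    (hab : a ≠ b) {φ : Ω → ZMod p} (hφ : Inv2 G a b φ) (hsum : ∑ z, φ z = 0) {i j : ZMod p}
    (hij : i ≠ j) {u : ZMod p} (hu : IsSquare u) (hu0 : u ≠ 0) (t : ZMod p) :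
    F C a b φ (u * i + t) (u * j + t) = u * F C a b φ i j := by
  obtain ⟨g, hg⟩ := C.affine u t hu hu0
  have hne : C.c i ≠ C.c j := fun h => hij (C.c.injective h)
  unfold F
  rw [← hg i, ← hg j, ← Fintype.sum_equiv (MulAction.toPerm g)
    (fun z => ext G a b φ (C.c i) (C.c j) z * (u * C.c.symm z + t)) _ (fun z => by
      rw [MulAction.toPerm_apply, ext_smul h2 hab hφ g hne]
      congr 1
      have h := hg (C.c.symm z)
      rw [Equiv.apply_symm_apply] at h
      rw [h, Equiv.symm_apply_apply])]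
  simp only [mul_add, Finset.sum_add_distrib, ← Finset.sum_mul]
  rw [sum_ext h2 hab hφ hne, hsum, zero_mul, add_zero, Finset.mul_sum]
  exact Finset.sum_congr rfl fun z _ => by ring

theorem F_eq [Fintype Ω] [Fact p.Prime] (h2 : IsMultiplyPretransitive G Ω 2) (C : Coords G Ω p) {a b : Ω}
    (hab : a ≠ b) {φ : Ω → ZMod p} (hφ : Inv2 G a b φ) (hsum : ∑ z, φ z = 0) {r : ZMod p}
    (hr : r ≠ 0) {i j : ZMod p} (hij : i ≠ j) (hd : IsSquare ((j - i) / r)) :
    F C a b φ i j = (j - i) / r * F C a b φ 0 r := by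
  have h0 : (j - i) / r ≠ 0 := div_ne_zero (sub_ne_zero.2 hij.symm) hr
  have := F_affine h2 C hab hφ hsum hr.symm hd h0 i
  rwa [mul_zero, zero_add, div_mul_cancel₀ _ hr, sub_add_cancel] at this

theorem isSquare_div_nonsquare [Fact p.Prime] {ν : ZMod p} (hν : ¬ IsSquare ν) {d : ZMod p}
    (hd : ¬ IsSquare d) : IsSquare (d / ν) := by
  by_cases hp2 : p = 2
  · subst hp2
    exact absurd (FiniteField.isSquare_of_char_two (by rw [ZMod.ringChar_zmod_n]) d) hd
  have hc : ringChar (ZMod p) ≠ 2 := by rwa [ZMod.ringChar_zmod_n]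
  have h1 : quadraticChar (ZMod p) ν = -1 := quadraticChar_neg_one_iff_not_isSquare.2 hν
  have h2 : quadraticChar (ZMod p) d = -1 := quadraticChar_neg_one_iff_not_isSquare.2 hd
  have hν0 : ν ≠ 0 := fun h => hν (h ▸ IsSquare.zero)
  have hd0 : d ≠ 0 := fun h => hd (h ▸ IsSquare.zero)
  rw [← quadraticChar_one_iff_isSquare (div_ne_zero hd0 hν0)]
  have h3 : quadraticChar (ZMod p) (d / ν) * quadraticChar (ZMod p) ν = quadraticChar (ZMod p) d := by
    rw [← map_mul, div_mul_cancel₀ _ hν0]
  rw [h1, h2] at h3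
  omega

theorem exists_nonsquare [Fact p.Prime] (hp2 : p ≠ 2) : ∃ ν : ZMod p, ¬ IsSquare ν :=
  FiniteField.exists_nonsquare (by rwa [ZMod.ringChar_zmod_n])

/-- The two values `F(0,1)` and `F(0,ν)` determine the invariant function up to constants. -/
theorem const_of_F_eq_zero [FaithfulSMul G Ω] [Fintype Ω] [Fact p.Prime] (hΩ : Fintype.card Ω = p)
    (h2 : IsMultiplyPretransitive G Ω 2) [IsPretransitive G Ω] (hins : ¬ Group.IsSolvable G)
    (hp2 : p ≠ 2) (C : Coords G Ω p) {a b : Ω} (hab : a ≠ b) {φ : Ω → ZMod p}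
    (hφ : Inv2 G a b φ) (hsum : ∑ z, φ z = 0) {ν : ZMod p} (hν : ¬ IsSquare ν)
    (hF1 : F C a b φ 0 1 = 0) (hF2 : F C a b φ 0 ν = 0) (z w : Ω) : φ z = φ w := by
  classical
  have hF : ∀ i j, i ≠ j → F C a b φ i j = 0 := by
    intro i j hij
    by_cases hd : IsSquare (j - i)
    · rw [F_eq h2 C hab hφ hsum one_ne_zero hij (by rwa [div_one]), hF1, mul_zero]
    · rw [F_eq h2 C hab hφ hsum (fun h => hν (by rw [h]; exact IsSquare.zero)) hij
        (isSquare_div_nonsquare hν hd), hF2, mul_zero]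
  let W : Submodule (ZMod p) (Ω → ZMod p) :=
    { carrier := {f | ∑ x, f x = 0 ∧ ∀ x y, x ≠ y → ∑ z, ext G a b φ x y z * f z = 0}
      add_mem' := by
        rintro f f' ⟨h1, h3⟩ ⟨h1', h3'⟩
        refine ⟨?_, fun x y hxy => ?_⟩
        · simp [Finset.sum_add_distrib, h1, h1']
        · simp [mul_add, Finset.sum_add_distrib, h3 x y hxy, h3' x y hxy]
      zero_mem' := ⟨by simp, fun x y _ => by simp⟩
      smul_mem' := by
        rintro r f ⟨h1, h3⟩
        refine ⟨?_, fun x y hxy => ?_⟩
        · simp [← Finset.mul_sum, h1]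
        · simp only [Pi.smul_apply, smul_eq_mul, mul_left_comm _ r, ← Finset.mul_sum, h3 x y hxy,
            mul_zero] }
  let v : Ω → ZMod p := fun x => C.c.symm x
  have hv : v ∈ W := by
    refine ⟨?_, fun x y hxy => ?_⟩
    · show ∑ x, C.c.symm x = 0
      rw [C.c.symm.sum_comp fun i => i]
      have h2ne : (2 : ZMod p) ≠ 0 := by
        intro h
        have : ((2 : ℕ) : ZMod p) = 0 := by exact_mod_cast h
        rw [ZMod.natCast_eq_zero_iff] at this
        exact hp2 ((Nat.prime_dvd_prime_iff_eq Fact.out Nat.prime_two).1 this)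
      refine (mul_eq_zero.1 (show (2 : ZMod p) * ∑ i : ZMod p, i = 0 from ?_)).resolve_left h2ne
      rw [two_mul]
      nth_rewrite 1 [← Equiv.sum_comp (Equiv.neg (ZMod p))]
      rw [← Finset.sum_add_distrib]
      simp
    · obtain ⟨i, rfl⟩ := C.c.surjective x
      obtain ⟨j, rfl⟩ := C.c.surjective y
      exact hF i j fun h => hxy (by rw [h])
  have hW : ∀ (g : G), ∀ f ∈ W, (fun x => f (g⁻¹ • x)) ∈ W := by
    rintro g f ⟨h1, h3⟩
    refine ⟨?_, fun x y hxy => ?_⟩
    · rw [← h1]
      exact Fintype.sum_equiv (MulAction.toPerm g⁻¹) _ _ fun x => rfl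
    · rw [← h3 (g⁻¹ • x) (g⁻¹ • y) fun h => hxy (smul_left_cancel _ h)]
      refine Fintype.sum_equiv (MulAction.toPerm g⁻¹) _ _ fun z => ?_
      rw [MulAction.toPerm_apply, ext_smul h2 hab hφ g⁻¹ hxy]
  have hone : (fun _ => (1 : ZMod p)) ∈ W := by
    refine ⟨by simp [hΩ], fun x y hxy => ?_⟩
    simp [sum_ext h2 hab hφ hxy, hsum]
  have hf : (fun u : Ω => (if u = z then (1 : ZMod p) else 0) - if u = w then 1 else 0) ∈ W :=
    sum_zero_mem hΩ hins W hW hone (fun f hf => hf.1) hv (x := C.c 0) (y := C.c 1)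
      (by simp [v]) (by simp [Finset.sum_sub_distrib])
  have := hf.2 a b hab
  simp only [ext_self hφ] at this
  simpa [mul_sub, Finset.sum_sub_distrib, sub_eq_zero] using this

/-- At most four classes: among five points some two are related by the two-point stabiliser. -/
theorem card_orbits_le_four [FaithfulSMul G Ω] [Fintype Ω] [Fact p.Prime] (hΩ : Fintype.card Ω = p)
    (h2 : IsMultiplyPretransitive G Ω 2) [IsPretransitive G Ω] (hins : ¬ Group.IsSolvable G)
    (hp2 : p ≠ 2) (C : Coords G Ω p) {a b : Ω} (hab : a ≠ b) :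
    Nat.card (orbitRel.Quotient ↥(stabilizer G a ⊓ stabilizer G b) Ω) ≤ 4 := by
  classical
  obtain ⟨ν, hν⟩ := exists_nonsquare hp2
  set H := stabilizer G a ⊓ stabilizer G b with hH
  haveI : Fintype (orbitRel.Quotient H Ω) := Fintype.ofFinite _
  let q : Ω → orbitRel.Quotient H Ω := Quotient.mk''
  have hinv : ∀ h : orbitRel.Quotient H Ω → ZMod p, Inv2 G a b (fun z => h (q z)) := by
    intro h g hga hgb z
    refine congrArg h (Quotient.sound' ?_)
    exact ⟨⟨g, hga, hgb⟩, rfl⟩
  let L : (orbitRel.Quotient H Ω → ZMod p) →ₗ[ZMod p] (Fin 3 → ZMod p) :=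
    { toFun := fun h => ![∑ z, h (q z), F C a b (fun z => h (q z)) 0 1, F C a b (fun z => h (q z)) 0 ν]
      map_add' := fun h h' => by
        have hF : ∀ i j, F C a b (fun z => h (q z) + h' (q z)) i j =
            F C a b (fun z => h (q z)) i j + F C a b (fun z => h' (q z)) i j := fun i j => by
          unfold F
          rw [← Finset.sum_add_distrib]
          refine Finset.sum_congr rfl fun z _ => ?_
          unfold ext
          split_ifs <;> ring
        funext k
        fin_cases k <;> simp [Finset.sum_add_distrib, hF]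
      map_smul' := fun r h => by
        have hF : ∀ i j, F C a b (fun z => r * h (q z)) i j =
            r * F C a b (fun z => h (q z)) i j := fun i j => by
          unfold F
          rw [Finset.mul_sum]
          refine Finset.sum_congr rfl fun z _ => ?_
          unfold ext
          split_ifs <;> ring
        funext k
        fin_cases k <;> simp [Finset.mul_sum, hF] }
  have hker : LinearMap.ker L ≤ Submodule.span (ZMod p) {fun _ => (1 : ZMod p)} := by
    intro h hh
    rw [LinearMap.mem_ker] at hh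
    have e0 : ∑ z, h (q z) = 0 := congrFun hh 0
    have e1 : F C a b (fun z => h (q z)) 0 1 = 0 := congrFun hh 1
    have e2 : F C a b (fun z => h (q z)) 0 ν = 0 := congrFun hh 2
    refine Submodule.mem_span_singleton.2 ⟨h (q a), funext fun u => ?_⟩
    obtain ⟨z, rfl⟩ := Quotient.mk''_surjective u
    simpa using const_of_F_eq_zero hΩ h2 hins hp2 C hab (hinv h) e0 hν e1 e2 a z
  have h1 := LinearMap.finrank_range_add_finrank_ker L
  have h3 : Module.finrank (ZMod p) (LinearMap.range L) ≤ 3 :=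
    (Submodule.finrank_le _).trans (by simp)
  have h4 : Module.finrank (ZMod p) (LinearMap.ker L) ≤ 1 := by
    refine (Submodule.finrank_mono hker).trans ?_
    refine (finrank_span_le_card _).trans ?_
    simp
  rw [Module.finrank_fintype_fun_eq_card] at h1
  rw [Nat.card_eq_fintype_card]
  omega

/-- Among three further points two lie in one orbit of the two-point stabiliser. -/
theorem exists_fixing_of_three [FaithfulSMul G Ω] [Fintype Ω] [Fact p.Prime]
    (hΩ : Fintype.card Ω = p) (h2 : IsMultiplyPretransitive G Ω 2) [IsPretransitive G Ω]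
    (hins : ¬ Group.IsSolvable G) (hp2 : p ≠ 2) (C : Coords G Ω p) {a b : Ω} (hab : a ≠ b)
    {x y z : Ω} (hx : x ≠ a ∧ x ≠ b) (hy : y ≠ a ∧ y ≠ b) (hz : z ≠ a ∧ z ≠ b) :
    ∃ g : G, g • a = a ∧ g • b = b ∧ (g • x = y ∨ g • x = z ∨ g • y = z) := by
  classical
  have hle := card_orbits_le_four hΩ h2 hins hp2 C hab
  set H := stabilizer G a ⊓ stabilizer G b with hH
  by_contra hno
  have key : ∀ u w : Ω, (Quotient.mk'' u : orbitRel.Quotient H Ω) = Quotient.mk'' w →
      ∃ g : G, g • a = a ∧ g • b = b ∧ g • w = u := by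
    intro u w h
    obtain ⟨⟨g, hga, hgb⟩, hg⟩ := Quotient.exact' h
    exact ⟨g, hga, hgb, hg⟩
  have hne : ∀ (u w : Ω), (u = a ∨ u = b) → u ≠ w →
      (Quotient.mk'' w : orbitRel.Quotient H Ω) ≠ Quotient.mk'' u := by
    intro u w hu huw h
    obtain ⟨g, hga, hgb, hg⟩ := key w u h
    rcases hu with rfl | rfl
    · exact huw (by rw [← hg, hga])
    · exact huw (by rw [← hg, hgb])
  have hne' : ∀ (u w : Ω), (u = a ∨ u = b) → u ≠ w →
      (Quotient.mk'' u : orbitRel.Quotient H Ω) ≠ Quotient.mk'' w :=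
    fun u w hu huw => (hne u w hu huw).symm
  have hsep : ∀ u w : Ω, (∀ g : G, g • a = a → g • b = b → g • w ≠ u) →
      (Quotient.mk'' u : orbitRel.Quotient H Ω) ≠ Quotient.mk'' w := by
    intro u w h e
    obtain ⟨g, hga, hgb, hg⟩ := key u w e
    exact h g hga hgb hg
  have hinj : Function.Injective (![Quotient.mk'' a, Quotient.mk'' b, Quotient.mk'' x,
      Quotient.mk'' y, Quotient.mk'' z] : Fin 5 → orbitRel.Quotient H Ω) := by
    have e1 := hne' a b (Or.inl rfl) hab
    have e2 := hne' a x (Or.inl rfl) hx.1.symm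
    have e3 := hne' a y (Or.inl rfl) hy.1.symm
    have e4 := hne' a z (Or.inl rfl) hz.1.symm
    have e5 := hne' b x (Or.inr rfl) hx.2.symm
    have e6 := hne' b y (Or.inr rfl) hy.2.symm
    have e7 := hne' b z (Or.inr rfl) hz.2.symm
    have e8 := hsep y x fun g ga gb e => hno ⟨g, ga, gb, Or.inl e⟩
    have e9 := hsep z x fun g ga gb e => hno ⟨g, ga, gb, Or.inr (Or.inl e)⟩
    have e10 := hsep z y fun g ga gb e => hno ⟨g, ga, gb, Or.inr (Or.inr e)⟩
    intro i j hij
    fin_cases i <;> fin_cases j <;> first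
      | rfl
      | (exfalso; simp at hij; first
          | exact e1 hij | exact e2 hij | exact e3 hij | exact e4 hij | exact e5 hij
          | exact e6 hij | exact e7 hij | exact e8 hij | exact e9 hij | exact e10 hij
          | exact e1 hij.symm | exact e2 hij.symm | exact e3 hij.symm | exact e4 hij.symm
          | exact e5 hij.symm | exact e6 hij.symm | exact e7 hij.symm | exact e8 hij.symm
          | exact e9 hij.symm | exact e10 hij.symm)
  have := Nat.card_le_card_of_injective _ hinj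
  rw [Nat.card_eq_fintype_card, Fintype.card_fin] at this
  omega

/-- Triple transitivity from transitivity of every two-point stabiliser on the rest. -/
theorem three_transitive_of {G Ω : Type*} [Group G] [MulAction G Ω] [Fintype Ω]
    (h2 : IsMultiplyPretransitive G Ω 2) {a b : Ω} (hab : a ≠ b)
    (h : ∀ x y : Ω, x ≠ a → x ≠ b → y ≠ a → y ≠ b → ∃ g : G, g • a = a ∧ g • b = b ∧ g • x = y) :
    IsMultiplyPretransitive G Ω 3 := by
  classical
  rw [is_two_pretransitive_iff] at h2
  refine Cfsg.Agent.Perm.isMultiplyPretransitive_of_fixing fun T hT x y hx hy => ?_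
  interval_cases hc : T.card
  · obtain rfl := Finset.card_eq_zero.1 hc
    by_cases hxy : x = y
    · exact ⟨1, by simp, by simp [hxy]⟩
    · obtain ⟨g, hg, -⟩ := h2 hxy (Ne.symm hxy)
      exact ⟨g, by simp, hg⟩
  · obtain ⟨u, rfl⟩ := Finset.card_eq_one.1 hc
    simp only [Finset.mem_singleton] at hx hy
    obtain ⟨g, hg1, hg2⟩ := h2 (Ne.symm hx) (Ne.symm hy)
    exact ⟨g, by simpa using hg1, hg2⟩
  · obtain ⟨u, w, huw, rfl⟩ := Finset.card_eq_two.1 hc
    simp only [Finset.mem_insert, Finset.mem_singleton, not_or] at hx hy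
    obtain ⟨k, hk1, hk2⟩ := h2 hab huw
    have ne : ∀ {s t : Ω}, s ≠ k • t → k⁻¹ • s ≠ t := fun h e => h (by rw [← e, smul_inv_smul])
    obtain ⟨g, ga, gb, gx⟩ := h (k⁻¹ • x) (k⁻¹ • y) (ne (hk1.symm ▸ hx.1)) (ne (hk2.symm ▸ hx.2))
      (ne (hk1.symm ▸ hy.1)) (ne (hk2.symm ▸ hy.2))
    refine ⟨k * g * k⁻¹, ?_, ?_⟩
    · simp only [Finset.mem_insert, Finset.mem_singleton, forall_eq_or_imp, forall_eq]
      constructor
      · rw [← hk1]; simp [mul_smul, ga]
      · rw [← hk2]; simp [mul_smul, gb]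
    · simp only [mul_smul, gx, smul_inv_smul]

end Cfsg.Agent.Lie.HalfNormalizer
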